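import Groth.Agent.VarHyper.HomogCover
import Groth.Agent.S10915
import Groth.Agent.S10829
import Groth.Agent.VarAmp.NoCurves
import Groth.Agent.H23.Isogeny
import Groth.Agent.H23.PnChart

/-!
# Finite linear projections
-/

set_option linter.style.haveILetI false
set_option backward.isDefEq.respectTransparency false
set_option backward.isDefEq.respectTransparency.types false
set_option maxHeartbeats 800000

universe u

open CategoryTheory AlgebraicGeometry TopologicalSpace MvPolynomial

namespace Groth.Agent.VarHyper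

open Groth.Agent

variable (k : Type u) [Field k] [Infinite k] (n : ℕ)

local notation "𝒜" => CohB1.polyGrading n k

/-- A linear form nonzero at finitely many points. -/
theorem exists_linear_avoid {Z : Set (CohB1.ProjSpace n k)} (hZ : Z.Finite) :
    ∃ l : MvPolynomial (Fin (n + 1)) k, l.IsHomogeneous 1 ∧ Z ⊆ (bo k n l : Set (CohB1.ProjSpace n k)) := by
  obtain ⟨l, hl, hlF⟩ := S10915.exists_avoiding k n
    ((fun z : CohB1.ProjSpace n k => (show ProjectiveSpectrum 𝒜 from z).asHomogeneousIdeal.toIdeal) '' Z)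
    (hZ.image _) (by
      rintro _ ⟨z, -, rfl⟩
      refine ⟨(show ProjectiveSpectrum 𝒜 from z).isPrime,
        (show ProjectiveSpectrum 𝒜 from z).asHomogeneousIdeal.isHomogeneous, fun h => ?_⟩
      refine (show ProjectiveSpectrum 𝒜 from z).not_irrelevant_le ?_
      intro a ha
      have h1 : a ∈ VarDim.ProjN.vertex k n :=
        (VarDim.ProjN.irrelevant_eq_vertex (k := k) (n := n)).le ha
      exact h.ge h1)
  exact ⟨l, hl, fun z hz => hlF _ ⟨z, hz, rfl⟩⟩

/-- `m` linear forms without common zero on a closed set of dimension `< m`. -/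
theorem exists_linear_cover [LocallyOfFiniteType (CohB1.ProjSpace.toSpec n k)]
    [NoetherianSpace (CohB1.ProjSpace n k)] :
    ∀ (m : ℕ) (R : Set (CohB1.ProjSpace n k)), IsClosed R →
      (∀ y ∈ R, VarDim.deg (CohB1.ProjSpace.toSpec n k) y < m) →
      ∃ l : Fin m → MvPolynomial (Fin (n + 1)) k, (∀ i, (l i).IsHomogeneous 1) ∧
        R ⊆ ⋃ i, (bo k n (l i) : Set (CohB1.ProjSpace n k))
  | 0, R, _, h => ⟨Fin.elim0, fun i => i.elim0, fun y hy => absurd (h y hy) (Nat.not_lt_zero _)⟩
  | m + 1, R, hR, h => by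
    let p := CohB1.ProjSpace.toSpec n k
    let Z : Set (CohB1.ProjSpace n k) := {z ∈ R | ∀ w ∈ R, w ⤳ z → w = z}
    have hex : ∀ y ∈ R, ∃ z ∈ Z, z ⤳ y := fun y hy => by
      obtain ⟨t, ⟨htR, hty⟩, hmax⟩ := Set.Finite.exists_maximalFor' (fun z => VarDim.deg p z)
        {z | z ∈ R ∧ z ⤳ y} ((Set.finite_Iio (m + 1)).subset (by
          rintro _ ⟨z, hz, rfl⟩; exact h z hz.1)) ⟨y, hy, specializes_rfl⟩
      refine ⟨t, ⟨htR, fun w hw hwt => ?_⟩, hty⟩
      exact VarDim.eq_of_specializes_of_deg_le (p := p) hwt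
        (hmax ⟨hw, hwt.trans hty⟩ (VarDim.deg_le_of_specializes p hwt))
    have hZ : Z.Finite := by
      obtain ⟨T, hT, hcl, hirr, hRT⟩ := NoetherianSpace.exists_finite_set_isClosed_irreducible hR
      refine Set.Finite.of_finite_image (f := fun z => closure ({z} : Set (CohB1.ProjSpace n k)))
        (hT.subset ?_) (fun a ha b hb e => ?_)
      · rintro _ ⟨z, ⟨hzR, hzmax⟩, rfl⟩
        obtain ⟨t, ht, hzt⟩ := Set.mem_sUnion.1 (hRT ▸ hzR)
        obtain ⟨ξ, hξ⟩ := QuasiSober.sober (hirr t ht) (hcl t ht)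
        have hξz := hzmax ξ (hRT.ge ⟨t, ht, hξ.mem⟩) (hξ.specializes hzt)
        show closure {z} ∈ T
        rw [← hξz, hξ.def]
        exact ht
      · exact hb.2 a ha.1 (specializes_iff_mem_closure.2 (e.ge (subset_closure rfl)))
    obtain ⟨l₀, hl₀, hZl⟩ := exists_linear_avoid k n hZ
    let G := (bo k n l₀ : Set (CohB1.ProjSpace n k))
    obtain ⟨ls, hls, hcov⟩ := exists_linear_cover m (R ∩ Gᶜ) (hR.inter (bo k n l₀).isOpen.isClosed_compl)
      fun y ⟨hyR, hyG⟩ => by
        obtain ⟨z, hz, hzy⟩ := hex y hyR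
        have h1 : VarDim.deg p z < m + 1 := h z hz.1
        show VarDim.deg p y < m
        rcases lt_or_eq_of_le (VarDim.deg_le_of_specializes p hzy) with h3 | h3
        · omega
        · exact absurd (hZl hz) (by
            rw [show z = y from VarDim.eq_of_specializes_of_deg_le (p := p) hzy h3.ge]; exact hyG)
    refine ⟨Fin.cons l₀ ls, fun i => ?_, fun y hy => ?_⟩
    · cases i using Fin.cases with
      | zero => simpa using hl₀
      | succ i => simpa using hls i
    · by_cases hyG : y ∈ G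
      · exact Set.mem_iUnion.2 ⟨0, by simp only [Fin.cons_zero]; exact hyG⟩
      · obtain ⟨i, hi⟩ := Set.mem_iUnion.1 (hcov ⟨hy, hyG⟩)
        exact Set.mem_iUnion.2 ⟨i.succ, by simpa using hi⟩

variable {n}

omit [Infinite k] in
theorem locus_sec {m : ℕ} {a : MvPolynomial (Fin (m + 1)) k} (ha : a.IsHomogeneous 1) :
    AmpleX.locus (ProjUPX.sec (CohB1.polyGrading m k) ha) = bo k m a := by
  have hcov : ⨆ i : Fin (m + 1), Proj.basicOpen (CohB1.polyGrading m k) (X i : MvPolynomial (Fin (m + 1)) k) = ⊤ :=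
    iSup_basicOpen_X (k := k) (n := m)
  have h1 := AmpleX.genLocus_sec (CohB1.polyGrading m k) _ (fun i => MvPolynomial.isHomogeneous_X k i) hcov ha
  rw [AmpleX.genLocus_eq_locus, InvX.one_ofSect] at h1
  exact h1

/-- The finite projection. -/
theorem exists_finite_surjective {X : Scheme.{u}} (ι : X ⟶ CohB1.ProjSpace n k) [IsClosedImmersion ι]
    (d : ℕ) (hd : topologicalKrullDim X = d) :
    ∃ π : X ⟶ CohB1.ProjSpace d k, π ≫ CohB1.ProjSpace.toSpec d k = ι ≫ CohB1.ProjSpace.toSpec n k ∧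
      IsFinite π ∧ Surjective π := by
  classical
  let p := CohB1.ProjSpace.toSpec n k
  let f := ι ≫ p
  haveI : IsProper p := PnCoh.Chow.isProper_toSpec n k
  haveI : IsLocallyNoetherian (CohB1.ProjSpace n k) := LocallyOfFiniteType.isLocallyNoetherian p
  haveI : CompactSpace (CohB1.ProjSpace n k) := QuasiCompact.compactSpace_of_compactSpace p
  haveI : IsNoetherian (CohB1.ProjSpace n k) := {}
  haveI : IsProper f := MorphismProperty.comp_mem _ _ _ inferInstance inferInstance
  obtain ⟨l, hl, hcovl⟩ := exists_linear_cover k n (d + 1) (Set.range ι.base)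
    ι.isClosedEmbedding.isClosed_range (by
      rintro _ ⟨x, rfl⟩
      have h1 := VarDim.deg_map_le ι p (p := f) rfl x
      have h2 : ((VarDim.deg f x : ℕ∞) : WithBot ℕ∞) ≤ (d : WithBot ℕ∞) := by
        rw [← hd, VarDim.topologicalKrullDim_eq_iSup_deg f]
        exact le_iSup_of_le x le_rfl
      have h3 : VarDim.deg f x ≤ d := by exact_mod_cast h2
      exact Nat.lt_succ_of_le (h1.trans h3))
  have hN : PicF.IsInvertible (Twist.twistProjSpace n k 1) :=
    PnCoh.Finite.isInvertible_twist _ (fun i => MvPolynomial.isHomogeneous_X k i) (iSup_basicOpen_X (k := k) (n := n)) 1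
  let L := (Scheme.Modules.pullback ι).obj (Twist.twistProjSpace n k 1)
  have hL : PicF.IsInvertible L := PicClLib.isInvertible_pullback ι hN
  let σ : Fin (d + 1) → Γ(L, ⊤) := fun i =>
    InvX.pullElt ι (ProjUPX.sec (CohB1.polyGrading n k) (hl i))
  have hσ : ∀ i, AmpleX.locus (σ i) = ι ⁻¹ᵁ bo k n (l i) := fun i => by
    rw [AmpleX.locus_pullElt hN ι, locus_sec k (hl i)]
  have hs : ProjUP.GeneratedBy L σ := AVAmple.generatedBy_of_locus _ fun x => by
    obtain ⟨i, hi⟩ := Set.mem_iUnion.1 (hcovl ⟨x, rfl⟩)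
    refine ⟨i, ?_⟩
    show x ∈ CohB1.genLocus _ (InvX.ofSect (σ i))
    rw [AmpleX.genLocus_eq_locus, InvX.one_ofSect, hσ]
    exact hi
  obtain ⟨π, hπ, τ, hτ⟩ := S3572.result d f L hL σ hs
  let q := CohB1.ProjSpace.toSpec d k
  haveI : IsProper q := PnCoh.Chow.isProper_toSpec d k
  haveI : IsProper π := by
    haveI : IsProper (π ≫ q) := hπ ▸ (inferInstance : IsProper f)
    exact IsProper.of_comp π q
  have hNd : PicF.IsInvertible (Twist.twistProjSpace d k 1) :=
    PnCoh.Finite.isInvertible_twist _ (fun i => MvPolynomial.isHomogeneous_X k i) (iSup_basicOpen_X (k := k) (n := d)) 1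
  let V : Fin (d + 1) → (CohB1.ProjSpace d k).Opens := fun i => bo k d (MvPolynomial.X i)
  have hpre : ∀ i, π ⁻¹ᵁ V i = ι ⁻¹ᵁ bo k n (l i) := fun i => by
    rw [← hσ i, ← hτ i]
    refine Eq.trans ?_ (AmpleX.locus_iso τ _).symm
    show π ⁻¹ᵁ bo k d (MvPolynomial.X i) = AmpleX.locus (InvX.pullElt π (ProjUPX.sec (CohB1.polyGrading d k) (MvPolynomial.isHomogeneous_X k i)))
    rw [AmpleX.locus_pullElt hNd π, locus_sec k (MvPolynomial.isHomogeneous_X k i)]
  haveI : IsAffineHom π := by
    refine isAffineHom_of_forall_exists_isAffineOpen π fun y => ?_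
    obtain ⟨i, hi⟩ := Opens.mem_iSup.1 ((iSup_basicOpen_X (k := k) (n := d)).ge (trivial : y ∈ ⊤))
    refine ⟨V i, hi, Proj.isAffineOpen_basicOpen _ _ (MvPolynomial.isHomogeneous_X k i) one_pos, ?_⟩
    rw [hpre i]
    have hb : IsAffineOpen (bo k n (l i)) := Proj.isAffineOpen_basicOpen _ _ (hl i) one_pos
    exact hb.preimage ι
  haveI : IsFinite π := IsFinite.iff_isProper_and_isAffineHom.2 ⟨inferInstance, inferInstance⟩
  refine ⟨π, hπ, inferInstance, ⟨Set.range_eq_univ.1 ?_⟩⟩
  haveI : CompactSpace X := QuasiCompact.compactSpace_of_compactSpace f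
  haveI : Nonempty X := by
    by_contra h
    haveI := not_nonempty_iff.1 h
    rw [VarDim.topologicalKrullDim_eq_iSup_deg f] at hd
    rw [iSup_of_empty] at hd
    exact WithBot.bot_ne_coe hd
  obtain ⟨x, -, -, hx⟩ := VarDim.exists_deg_eq_topologicalKrullDim (p := f)
  rw [hd] at hx
  have hxd : VarDim.deg f x = d := by exact_mod_cast hx.symm
  have hπx : VarDim.deg q (π x) = d := by
    have h := VarDim.deg_eq_add π q hπ x
    rw [H23.Isogeny.fdeg_eq_zero_of_finite π x, add_zero, hxd] at h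
    exact h.symm
  haveI : IsIntegral (CohB1.ProjSpace d k) := H23.PnChart.isIntegral_projSpace d k
  have hgen : π x = genericPoint (CohB1.ProjSpace d k) := by
    have hdim := S10829.result k d
    rw [VarDim.topologicalKrullDim_eq_deg_genericPoint q] at hdim
    have hd' : VarDim.deg q (genericPoint (CohB1.ProjSpace d k)) = d := by exact_mod_cast hdim
    exact (VarDim.eq_of_specializes_of_deg_le (p := q) (genericPoint_specializes (π x)) (by omega)).symm
  refine Set.eq_univ_of_univ_subset ?_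
  rw [← genericPoint_closure, ← hgen]
  exact π.isClosedMap.isClosed_range.closure_subset_iff.2 (Set.singleton_subset_iff.2 ⟨x, rfl⟩)

end Groth.Agent.VarHyper
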