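import Groth.Agent.VarHyper.Ker
import Groth.Agent.PnCoh.Chow.Proper
import Groth.Agent.VarDim.Top
import Groth.Agent.VarDim.Fibre

/-!
# Complements of hypersurfaces through `Y` covering `X ∖ Y`
-/

set_option linter.style.haveILetI false
set_option backward.isDefEq.respectTransparency false
set_option backward.isDefEq.respectTransparency.types false

universe u

open CategoryTheory AlgebraicGeometry TopologicalSpace MvPolynomial

namespace Groth.Agent.VarHyper

open Groth.Agent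

variable (k : Type u) [Field k] (n : ℕ)

local notation "𝒜" => CohB1.polyGrading n k

/-- A basic open of projective space. -/
noncomputable abbrev bo (g : MvPolynomial (Fin (n + 1)) k) : (CohB1.ProjSpace n k).Opens := Proj.basicOpen 𝒜 g

/-- Basic opens of forms of positive degree form a basis. -/
theorem exists_form_basic {z : CohB1.ProjSpace n k} {O : Set (CohB1.ProjSpace n k)} (hO : IsOpen O)
    (hz : z ∈ O) : ∃ (g : MvPolynomial (Fin (n + 1)) k) (d : ℕ), 0 < d ∧ g.IsHomogeneous d ∧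
      z ∈ bo k n g ∧ (bo k n g : Set (CohB1.ProjSpace n k)) ⊆ O := by
  obtain ⟨_, ⟨a, rfl⟩, hza, haO⟩ :=
    (ProjectiveSpectrum.isTopologicalBasis_basic_opens 𝒜).exists_subset_of_mem_open hz hO
  have hu := ProjectiveSpectrum.basicOpen_eq_union_of_projection 𝒜 a
  replace hza : z ∈ ProjectiveSpectrum.basicOpen 𝒜 a := hza
  rw [hu] at hza
  obtain ⟨i, hi⟩ := Opens.mem_iSup.1 hza
  obtain ⟨c, hc⟩ := Opens.mem_iSup.1 ((iSup_basicOpen_X (k := k) (n := n)).ge (trivial : z ∈ ⊤))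
  have hg : GradedRing.proj 𝒜 i a * X c ∈ 𝒜 (i + 1) :=
    SetLike.mul_mem_graded (SetLike.coe_mem _) (X_mem c)
  refine ⟨GradedRing.proj 𝒜 i a * X c, i + 1, i.succ_pos, hg, ?_, ?_⟩
  · rw [bo, Proj.basicOpen_mul]
    exact ⟨hi, hc⟩
  · rw [bo, Proj.basicOpen_mul]
    rintro w ⟨hw, -⟩
    refine haO (?_ : w ∈ ProjectiveSpectrum.basicOpen 𝒜 a)
    rw [hu]
    exact Opens.mem_iSup.2 ⟨i, hw⟩

theorem mem_basicOpen_pow {g : MvPolynomial (Fin (n + 1)) k} {m : ℕ} (hm : 0 < m) (w : CohB1.ProjSpace n k) :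
    w ∈ bo k n (g ^ m) ↔ w ∈ bo k n g := by
  rw [bo, bo, Proj.basicOpen_pow _ _ _ hm]

/-- A form of positive degree, vanishing on a closed set and at none of finitely many points outside it. -/
theorem exists_form_avoid {C Z : Set (CohB1.ProjSpace n k)} (hC : IsClosed C) (hZ : Z.Finite)
    (hdisj : Disjoint Z C) (hmax : ∀ z ∈ Z, ∀ w ∈ Z, w ⤳ z → w = z) :
    ∃ (h : MvPolynomial (Fin (n + 1)) k) (d : ℕ), 0 < d ∧ h.IsHomogeneous d ∧
      Z ⊆ (bo k n h : Set (CohB1.ProjSpace n k)) ∧ (bo k n h : Set (CohB1.ProjSpace n k)) ⊆ Cᶜ := by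
  classical
  rcases Z.eq_empty_or_nonempty with rfl | hne
  · refine ⟨0, 1, one_pos, isHomogeneous_zero _ _ _, Set.empty_subset _, fun w hw => ?_⟩
    rw [bo, Proj.basicOpen_zero] at hw
    exact hw.elim
  let W : CohB1.ProjSpace n k → Set (CohB1.ProjSpace n k) := fun z => (C ∪ ⋃ w ∈ Z \ {z}, closure {w})ᶜ
  have hWo : ∀ z, IsOpen (W z) := fun z =>
    (hC.union ((hZ.diff).isClosed_biUnion fun w _ => isClosed_closure)).isOpen_compl
  have hWz : ∀ z : Z, z.1 ∈ W z := fun z => by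
    rintro (h | h)
    · exact Set.disjoint_left.1 hdisj z.2 h
    · obtain ⟨w, hw, hzw⟩ := Set.mem_iUnion₂.1 h
      exact hw.2 (hmax z z.2 w hw.1 (specializes_iff_mem_closure.2 hzw))
  choose g d hd hg hzg hgW using fun z : Z => exists_form_basic k n (hWo z) (hWz z)
  haveI := hZ.fintype
  let D := ∏ z, d z
  have hD : 0 < D := Finset.prod_pos fun z _ => hd z
  have hc : ∀ z, ∃ c, 0 < c ∧ d z * c = D := fun z => by
    obtain ⟨c, hc⟩ : d z ∣ D := Finset.dvd_prod_of_mem _ (Finset.mem_univ z)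
    exact ⟨c, Nat.pos_of_ne_zero fun h0 => by rw [h0, mul_zero] at hc; exact hD.ne' hc, hc.symm⟩
  choose c hcpos hcD using hc
  have hmemW : ∀ (z : Z) (w : CohB1.ProjSpace n k), w ∉ W z →
      g z ^ c z ∈ (show ProjectiveSpectrum 𝒜 from w).asHomogeneousIdeal := fun z w hw => by
    have h1 : w ∉ bo k n (g z ^ c z) := fun h =>
      hw (hgW z ((mem_basicOpen_pow k n (hcpos z) w).1 h))
    exact not_not.1 h1
  refine ⟨∑ z, g z ^ c z, D, hD, IsHomogeneous.sum _ _ _ fun z _ => hcD z ▸ (hg z).pow (c z), ?_, ?_⟩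
  · intro z hz hh
    have hz' : g ⟨z, hz⟩ ^ c ⟨z, hz⟩ ∉ (show ProjectiveSpectrum 𝒜 from z).asHomogeneousIdeal :=
      (mem_basicOpen_pow k n (hcpos _) z).2 (hzg ⟨z, hz⟩)
    refine hz' ?_
    rw [← Finset.sum_erase_add _ _ (Finset.mem_univ (⟨z, hz⟩ : Z))] at hh
    refine (Submodule.add_mem_iff_right _ (Submodule.sum_mem _ fun w hw => hmemW w z fun hzW => ?_)).1 hh
    exact hzW (Or.inr (Set.mem_iUnion₂.2 ⟨z, ⟨hz, fun e => (Finset.ne_of_mem_erase hw) (Subtype.ext e.symm)⟩,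
      subset_closure rfl⟩))
  · intro w hw hwC
    exact hw (Submodule.sum_mem _ fun z _ => hmemW z w fun h => h (Or.inl hwC))

/-- `m` forms vanishing on `C` cover a closed set of dimension `< m` off `C`. -/
theorem exists_forms_cover (C : Set (CohB1.ProjSpace n k)) (hC : IsClosed C)
    [LocallyOfFiniteType (CohB1.ProjSpace.toSpec n k)] [NoetherianSpace (CohB1.ProjSpace n k)] :
    ∀ (m : ℕ) (R : Set (CohB1.ProjSpace n k)), IsClosed R →
      (∀ y ∈ R \ C, VarDim.deg (CohB1.ProjSpace.toSpec n k) y < m) →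
      ∃ h : Fin m → MvPolynomial (Fin (n + 1)) k, (∀ i, ∃ d : ℕ, 0 < d ∧ (h i).IsHomogeneous d) ∧
        (∀ i, C ⊆ (bo k n (h i) : Set (CohB1.ProjSpace n k))ᶜ) ∧
        R \ C ⊆ ⋃ i, (bo k n (h i) : Set (CohB1.ProjSpace n k))
  | 0, R, _, h => ⟨Fin.elim0, fun i => i.elim0, fun i => i.elim0,
      fun y hy => absurd (h y hy) (Nat.not_lt_zero _)⟩
  | m + 1, R, hR, h => by
    let p := CohB1.ProjSpace.toSpec n k
    let Z : Set (CohB1.ProjSpace n k) := {z ∈ R \ C | ∀ w ∈ R, w ⤳ z → w = z}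
    have hex : ∀ y ∈ R \ C, ∃ z ∈ Z, z ⤳ y := fun y hy => by
      obtain ⟨t, ⟨htR, hty⟩, hmax⟩ := Set.Finite.exists_maximalFor' (fun z => VarDim.deg p z)
        {z | z ∈ R ∧ z ⤳ y} ((Set.finite_Iio (m + 1)).subset (by
          rintro _ ⟨z, hz, rfl⟩; exact h z ⟨hz.1, fun hzC => hy.2 (hz.2.mem_closed hC hzC)⟩)) ⟨y, hy.1, specializes_rfl⟩
      refine ⟨t, ⟨⟨htR, fun htC => hy.2 (hty.mem_closed hC htC)⟩, fun w hw hwt => ?_⟩, hty⟩
      exact VarDim.eq_of_specializes_of_deg_le (p := p) hwt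
        (hmax ⟨hw, hwt.trans hty⟩ (VarDim.deg_le_of_specializes p hwt))
    have hZ : Z.Finite := by
      obtain ⟨T, hT, hcl, hirr, hRT⟩ := NoetherianSpace.exists_finite_set_isClosed_irreducible hR
      refine Set.Finite.of_finite_image (f := fun z => closure ({z} : Set (CohB1.ProjSpace n k)))
        (hT.subset ?_) (fun a ha b hb e => ?_)
      · rintro _ ⟨z, ⟨hzR, hzmax⟩, rfl⟩
        obtain ⟨t, ht, hzt⟩ := Set.mem_sUnion.1 (hRT ▸ hzR.1)
        obtain ⟨ξ, hξ⟩ := QuasiSober.sober (hirr t ht) (hcl t ht)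
        have hξz := hzmax ξ (hRT.ge ⟨t, ht, hξ.mem⟩) (hξ.specializes hzt)
        show closure {z} ∈ T
        rw [← hξz, hξ.def]
        exact ht
      · exact hb.2 a ha.1.1 (specializes_iff_mem_closure.2 (e.ge (subset_closure rfl)))
    obtain ⟨h₀, d₀, hd₀, hh₀, hZh, hC₀⟩ := exists_form_avoid k n hC hZ
      (Set.disjoint_left.2 fun z hz => hz.1.2) (fun z hz w hw => hz.2 w hw.1.1)
    let G := (bo k n h₀ : Set (CohB1.ProjSpace n k))
    have hlt : ∀ y ∈ R \ C, y ∉ G → VarDim.deg p y < m := fun y hyR hyG => by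
      obtain ⟨z, hz, hzy⟩ := hex y hyR
      have h1 := h z hz.1
      rcases lt_or_eq_of_le (VarDim.deg_le_of_specializes p hzy) with h3 | h3
      · have h1' : VarDim.deg p z < m + 1 := h1
        omega
      · exact absurd (hZh hz) (by
          rw [show z = y from VarDim.eq_of_specializes_of_deg_le (p := p) hzy h3.ge]; exact hyG)
    obtain ⟨hs, hhs, hCs, hcov⟩ := exists_forms_cover C hC m (R ∩ Gᶜ)
      (hR.inter (bo k n h₀).isOpen.isClosed_compl) (fun y hy => hlt y ⟨hy.1.1, hy.2⟩ hy.1.2)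
    refine ⟨Fin.cons h₀ hs, fun i => ?_, fun i => ?_, fun y hy => ?_⟩
    · cases i using Fin.cases with
      | zero => simpa using ⟨d₀, hd₀, hh₀⟩
      | succ i => simpa using hhs i
    · cases i using Fin.cases with
      | zero => simpa using Set.subset_compl_comm.1 hC₀
      | succ i => simpa using hCs i
    · by_cases hyG : y ∈ G
      · exact Set.mem_iUnion.2 ⟨0, by simp only [Fin.cons_zero]; exact hyG⟩
      · obtain ⟨i, hi⟩ := Set.mem_iUnion.1 (hcov ⟨⟨hy.1, hyG⟩, hy.2⟩)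
        exact Set.mem_iUnion.2 ⟨i.succ, by simpa using hi⟩

end Groth.Agent.VarHyper
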