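import Groth.Agent.AmpleVan.Pull
import Groth.Agent.AmpleX.FiniteSet
import Groth.Agent.PnCoh.Chow.Proper
import Groth.Agent.VarDim.Top
import Groth.Agent.VarDim.Fibre
import Groth.Agent.Lib.AVAmple

/-!
# A quasi-projective scheme of dimension `r` is covered by `r + 1` affine opens
-/

set_option linter.style.haveILetI false
set_option backward.isDefEq.respectTransparency false
set_option backward.isDefEq.respectTransparency.types false

universe u

open CategoryTheory AlgebraicGeometry TopologicalSpace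

namespace Groth.Agent.VarHyper

open Groth.Agent

/-- With an ample module, closed sets of dimension `< m` are covered by `m` affine opens. -/
theorem exists_affine_cover_of_deg_lt {k : Type u} [Field k] {X : Scheme.{u}} (p : X ⟶ Spec (CommRingCat.of k))
    [LocallyOfFiniteType p] [X.IsSeparated] [NoetherianSpace X] {L : X.Modules} (hL : CohB1.IsAmple L) :
    ∀ (m : ℕ) (R : Set X), IsClosed R → (∀ y ∈ R, VarDim.deg p y < m) →
      ∃ U : Fin m → X.Opens, (∀ i, IsAffineOpen (U i)) ∧ R ⊆ ⋃ i, (U i : Set X)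
  | 0, R, _, h => ⟨Fin.elim0, fun i => i.elim0, fun y hy => absurd (h y hy) (Nat.not_lt_zero _)⟩
  | m + 1, R, hR, h => by
    let Z : Set X := {z ∈ R | ∀ w ∈ R, w ⤳ z → w = z}
    have hex : ∀ y ∈ R, ∃ z ∈ Z, z ⤳ y := fun y hy => by
      obtain ⟨t, ⟨htR, hty⟩, hmax⟩ := Set.Finite.exists_maximalFor' (fun z => VarDim.deg p z)
        {z | z ∈ R ∧ z ⤳ y} ((Set.finite_Iio (m + 1)).subset (by
          rintro _ ⟨z, hz, rfl⟩; exact h z hz.1)) ⟨y, hy, specializes_rfl⟩
      refine ⟨t, ⟨htR, fun w hw hwt => ?_⟩, hty⟩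
      exact VarDim.eq_of_specializes_of_deg_le (p := p) hwt
        (hmax ⟨hw, hwt.trans hty⟩ (VarDim.deg_le_of_specializes p hwt))
    have hZ : Z.Finite := by
      obtain ⟨T, hT, hcl, hirr, hRT⟩ := NoetherianSpace.exists_finite_set_isClosed_irreducible hR
      refine Set.Finite.of_finite_image (f := fun z => closure ({z} : Set X)) (hT.subset ?_)
        (fun a ha b hb e => ?_)
      · rintro _ ⟨z, ⟨hzR, hzmax⟩, rfl⟩
        obtain ⟨t, ht, hzt⟩ := Set.mem_sUnion.1 (hRT ▸ hzR)
        obtain ⟨ξ, hξ⟩ := QuasiSober.sober (hirr t ht) (hcl t ht)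
        have hξz := hzmax ξ (hRT.ge ⟨t, ht, hξ.mem⟩) (hξ.specializes hzt)
        show closure {z} ∈ T
        rw [← hξz, hξ.def]
        exact ht
      · exact hb.2 a ha.1 (specializes_iff_mem_closure.2 (e.ge (subset_closure rfl)))
    obtain ⟨n, s, hs, -, haff⟩ := AmpleX.exists_finite_nhd hL hZ (U := ⊤) (fun z _ => trivial)
    obtain ⟨U, hU, hcov⟩ := exists_affine_cover_of_deg_lt p hL m (R ∩ (CohB1.genLocus _ s : Set X)ᶜ)
      (hR.inter (CohB1.genLocus _ s).isOpen.isClosed_compl) fun y ⟨hyR, hyG⟩ => by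
        obtain ⟨z, hz, hzy⟩ := hex y hyR
        have h1 := h z hz.1
        have h2 := VarDim.deg_le_of_specializes p hzy
        rcases lt_or_eq_of_le h2 with h3 | h3
        · omega
        · exact absurd (hs hz) (by
            rw [show z = y from VarDim.eq_of_specializes_of_deg_le (p := p) hzy h3.ge]; exact hyG)
    refine ⟨Fin.cons (CohB1.genLocus _ s) U, fun i => ?_, fun y hy => ?_⟩
    · cases i using Fin.cases with
      | zero => simpa using haff
      | succ i => simpa using hU i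
    · by_cases hyG : y ∈ CohB1.genLocus _ s
      · exact Set.mem_iUnion.2 ⟨0, by simpa using hyG⟩
      · obtain ⟨i, hi⟩ := Set.mem_iUnion.1 (hcov ⟨hy, hyG⟩)
        exact Set.mem_iUnion.2 ⟨i.succ, by simpa using hi⟩

/-- The cover of a quasi-projective scheme. -/
theorem exists_affine_cover {k : Type u} [Field k] {n r : ℕ} {X : Scheme.{u}}
    (j : X ⟶ CohB1.ProjSpace n k) [IsImmersion j] (hX : topologicalKrullDim ↥X = r) :
    ∃ U : Fin (r + 1) → X.Opens, (∀ i, IsAffineOpen (U i)) ∧ ⨆ i, U i = ⊤ := by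
  classical
  haveI : IsProper (CohB1.ProjSpace.toSpec n k) := PnCoh.Chow.isProper_toSpec n k
  haveI : IsLocallyNoetherian (CohB1.ProjSpace n k) :=
    LocallyOfFiniteType.isLocallyNoetherian (CohB1.ProjSpace.toSpec n k)
  haveI : CompactSpace (CohB1.ProjSpace n k) :=
    QuasiCompact.compactSpace_of_compactSpace (CohB1.ProjSpace.toSpec n k)
  haveI : IsNoetherian (CohB1.ProjSpace n k) := {}
  haveI : NoetherianSpace X := j.isEmbedding.isInducing.noetherianSpace
  let p := j ≫ CohB1.ProjSpace.toSpec n k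
  haveI : X.IsSeparated := ⟨by
    rw [← Limits.terminal.comp_from p]
    infer_instance⟩
  let T : Finset (MvPolynomial (Fin (n + 1)) k) := Finset.univ.image MvPolynomial.X
  have hamp : CohB1.IsAmple (Twist.twistProjSpace n k 1) := by
    refine AmpleX.isAmple_twist_one _ T (fun g hg => ?_) ?_
    · obtain ⟨i, -, rfl⟩ := Finset.mem_image.1 hg
      exact ProjPt.X_mem i
    · refine Proj.iSup_basicOpen_eq_top _ _ ((SegreX.irrelevant_le_span n k).trans ?_)
      refine Ideal.span_mono ?_
      rintro _ ⟨i, rfl⟩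
      exact ⟨⟨_, Finset.mem_image.2 ⟨i, Finset.mem_univ _, rfl⟩⟩, rfl⟩
  have hL := AmpleVan.isAmple_pullback_of_isEmbedding j j.isEmbedding hamp
  have hdeg : ∀ y : X, VarDim.deg p y < r + 1 := fun y => by
    have h : ((VarDim.deg p y : ℕ∞) : WithBot ℕ∞) ≤ (r : WithBot ℕ∞) := by
      rw [← hX, VarDim.topologicalKrullDim_eq_iSup_deg p]
      exact le_iSup_of_le y le_rfl
    exact Nat.lt_succ_of_le (by exact_mod_cast h)
  obtain ⟨U, hU, hcov⟩ := exists_affine_cover_of_deg_lt p hL (r + 1) Set.univ isClosed_univ fun y _ => hdeg y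
  refine ⟨U, hU, Opens.ext (Set.eq_univ_of_univ_subset ?_)⟩
  rw [Opens.coe_iSup]
  exact hcov

end Groth.Agent.VarHyper
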