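import Groth.Agent.VarHyper.Ker
import Groth.Agent.ZetaLib.ProjPoints
import Groth.Agent.GeomConn5.Point
import Groth.Agent.KRRLib.PnBC.Twist
import Groth.Agent.AmpleX.Proj
import Groth.Agent.AmpleX.Sect
import Mathlib.GroupTheory.CosetCover

/-!
# A hyperplane through a rational point avoiding finitely many others
-/

set_option linter.style.haveILetI false
set_option backward.isDefEq.respectTransparency false
set_option backward.isDefEq.respectTransparency.types false
set_option maxHeartbeats 800000

universe u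

open CategoryTheory AlgebraicGeometry TopologicalSpace MvPolynomial HomogeneousLocalization

namespace Groth.Agent.VarHyper

open Groth.Agent

variable {k : Type u} [Field k] {n : ℕ}

local notation "𝒜" => CohB1.polyGrading n k

/-- The prime of a point. -/
noncomputable abbrev primeAt (z : CohB1.ProjSpace n k) : Ideal (MvPolynomial (Fin (n + 1)) k) :=
  (show ProjectiveSpectrum 𝒜 from z).asHomogeneousIdeal.toIdeal

theorem mem_primeAt_chart (c : Fin (n + 1)) (p : Spec (CommRingCat.of (Away 𝒜 (X c : MvPolynomial (Fin (n + 1)) k))))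
    {g : MvPolynomial (Fin (n + 1)) k} {e : ℕ} (hg : g.IsHomogeneous e) (he : 0 < e) :
    g ∈ primeAt (ZetaLib.chart n k c p) ↔ ZetaLib.dehom n k c g ∈ p.asIdeal := by
  have h := congrArg (fun U : (Spec (CommRingCat.of (Away 𝒜 (X c : MvPolynomial (Fin (n + 1)) k)))).Opens => p ∈ U)
    (Proj.awayι_preimage_basicOpen 𝒜 (ZetaLib.X_mem_one n k c) Nat.one_pos (show g ∈ 𝒜 e from hg) he)
  have heq : Away.isLocalizationElem (ZetaLib.X_mem_one n k c) (show g ∈ 𝒜 e from hg) = ZetaLib.dehom n k c g := by
    refine HomogeneousLocalization.val_injective _ ?_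
    have hu : IsUnit (algebraMap (MvPolynomial (Fin (n + 1)) k)
        (Localization (Submonoid.powers (X c : MvPolynomial (Fin (n + 1)) k))) (X c) ^ e) :=
      (IsLocalization.Away.algebraMap_isUnit (S := Localization (Submonoid.powers (X c : MvPolynomial (Fin (n + 1)) k)))
        (X c)).pow e
    refine hu.mul_right_cancel (Eq.trans ?_ (ZetaLib.val_dehom_mul n k c hg).symm)
    rw [Away.isLocalizationElem, Away.val_mk, ← Localization.mk_one_eq_algebraMap,
      ← Localization.mk_one_eq_algebraMap, Localization.mk_pow, Localization.mk_mul, Localization.mk_eq_mk_iff,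
      Localization.r_iff_exists]
    exact ⟨1, by simp [mul_comm]⟩
  rw [heq] at h
  exact not_iff_not.1 (eq_iff_iff.1 h)

theorem aeval_C_mul_X {e : ℕ} {f : MvPolynomial (Fin (n + 1)) k} (hf : f.IsHomogeneous e)
    (a : Fin (n + 1) → k) (c : Fin (n + 1)) :
    aeval (fun l => C (a l) * (X c : MvPolynomial (Fin (n + 1)) k)) f = C (eval a f) * X c ^ e := by
  classical
  conv_lhs => rw [f.as_sum]
  conv_rhs => rw [f.as_sum]
  rw [map_sum, map_sum, map_sum, Finset.sum_mul]
  refine Finset.sum_congr rfl fun d hd => ?_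
  have hdeg : ∑ j ∈ d.support, d j = e := by
    have := hf (MvPolynomial.mem_support_iff.1 hd)
    rwa [Finsupp.weight_apply, Finsupp.sum,
      Finset.sum_congr rfl fun j _ => (by simp : d j • (1 : Fin (n + 1) → ℕ) j = d j)] at this
  rw [aeval_monomial, eval_monomial, Finsupp.prod, Finsupp.prod, map_mul, map_prod, ← hdeg,
    ← Finset.prod_pow_eq_pow_sum, mul_assoc, ← Finset.prod_mul_distrib]
  congr 1
  exact Finset.prod_congr rfl fun j _ => by rw [mul_pow, map_pow]

theorem mem_primeAt_iff_eval {z : CohB1.ProjSpace n k} {c : Fin (n + 1)} {a : Fin (n + 1) → k}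
    (ha : ∀ l, X l - C (a l) * X c ∈ primeAt z) {e : ℕ} {f : MvPolynomial (Fin (n + 1)) k}
    (hf : f.IsHomogeneous e) : f ∈ primeAt z ↔ eval a f = 0 := by
  let P := primeAt z
  haveI hP : P.IsPrime := (show ProjectiveSpectrum 𝒜 from z).isPrime
  have hc : X c ∉ P := fun hc => by
    refine (show ProjectiveSpectrum 𝒜 from z).not_irrelevant_le ?_
    refine (SegreX.irrelevant_le_span n k).trans (Ideal.span_le.2 ?_)
    rintro _ ⟨l, rfl⟩
    have := P.add_mem (ha l) (P.mul_mem_left (C (a l)) hc)
    rwa [sub_add_cancel] at this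
  have hmod : Ideal.Quotient.mk P f = Ideal.Quotient.mk P (C (eval a f) * X c ^ e) := by
    rw [← aeval_C_mul_X hf a c]
    refine DFunLike.congr_fun (?_ : Ideal.Quotient.mkₐ k P =
      (Ideal.Quotient.mkₐ k P).comp (aeval fun l => C (a l) * (X c : MvPolynomial (Fin (n + 1)) k))) f
    refine MvPolynomial.algHom_ext fun l => ?_
    rw [AlgHom.comp_apply, aeval_X]
    exact Ideal.Quotient.eq.2 (ha l)
  rw [← Ideal.Quotient.eq_zero_iff_mem, hmod, Ideal.Quotient.eq_zero_iff_mem, hP.mul_mem_iff_mem_or_mem]
  refine ⟨fun h => ?_, fun h => Or.inl (by rw [h, map_zero]; exact P.zero_mem)⟩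
  rcases h with h | h
  · by_contra h0
    exact hP.ne_top (P.eq_top_of_isUnit_mem h ((isUnit_iff_ne_zero.2 h0).map C))
  · exact absurd (hP.mem_of_pow_mem _ h) hc

/-- The coordinates of a rational point. -/
theorem exists_coords {X' : Scheme.{u}} [X'.Over (Spec (CommRingCat.of k))] (r : X' ⟶ CohB1.ProjSpace n k)
    (hr : r ≫ CohB1.ProjSpace.toSpec n k = X' ↘ (Spec (CommRingCat.of k))) (x : X')
    (hx : Function.Surjective (Curv2.resMap k X' x)) :
    ∃ (c : Fin (n + 1)) (a : Fin (n + 1) → k), ∀ l, X l - C (a l) * X c ∈ primeAt (r x) := by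
  obtain ⟨c, hc⟩ := ZetaLib.exists_mem_chart (r x)
  let g := X'.fromSpecResidueField x ≫ r
  have hg : Set.range g ⊆ Set.range (ZetaLib.chart n k c) := by
    rintro _ ⟨s, rfl⟩
    rw [Scheme.Hom.comp_apply, Scheme.fromSpecResidueField_apply]
    exact hc
  let ψ := Spec.preimage (IsOpenImmersion.lift (ZetaLib.chart n k c) g hg)
  have hfac : Spec.map ψ ≫ ZetaLib.chart n k c = g := by rw [Spec.map_preimage, IsOpenImmersion.lift_fac]
  have hψ : ψ.hom.comp (ZetaLib.base n k c) = Curv2.resMap k X' x := by
    have h : CommRingCat.ofHom (ZetaLib.base n k c) ≫ ψ = CommRingCat.ofHom (Curv2.resMap k X' x) := by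
      apply Spec.map_injective
      rw [Spec.map_comp, ← ZetaLib.chart_toSpec, ← Category.assoc, hfac, ← GeomConn5.spec_resMap, Category.assoc, hr]
    exact congrArg CommRingCat.Hom.hom h
  choose a ha using fun l => hx (ψ.hom (ZetaLib.coord n k c l))
  refine ⟨c, a, fun l => ?_⟩
  let pt := Spec.map ψ (IsLocalRing.closedPoint (X'.residueField x))
  have hpt : ZetaLib.chart n k c pt = r x := by
    rw [← Scheme.Hom.comp_apply, hfac, Scheme.Hom.comp_apply, Scheme.fromSpecResidueField_apply]
  rw [← hpt, mem_primeAt_chart c pt ((isHomogeneous_X k l).sub ((isHomogeneous_X k c).C_mul (a l))) one_pos]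
  show ψ.hom (ZetaLib.dehom n k c _) ∈ IsLocalRing.maximalIdeal _
  have hcc : ZetaLib.coord n k c c = 1 := by
    refine HomogeneousLocalization.val_injective _ ?_
    rw [ZetaLib.coord, Away.val_mk, HomogeneousLocalization.val_one, ← Localization.mk_one,
      Localization.mk_eq_mk_iff, Localization.r_iff_exists]
    exact ⟨1, by simp⟩
  rw [map_sub, map_sub, map_mul, map_mul, ZetaLib.dehom, eval₂Hom_X', eval₂Hom_C, eval₂Hom_X', hcc, map_one,
    mul_one, show ψ.hom (ZetaLib.base n k c (a l)) = Curv2.resMap k X' x (a l) from RingHom.congr_fun hψ (a l),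
    ha l, sub_self]
  exact zero_mem _

variable [Infinite k]

/-- A linear form through a rational point avoiding finitely many other points. -/
theorem exists_linear_through {z₀ : CohB1.ProjSpace n k} {c : Fin (n + 1)} {a : Fin (n + 1) → k}
    (ha : ∀ l, X l - C (a l) * X c ∈ primeAt z₀) {Z : Set (CohB1.ProjSpace n k)} (hZ : Z.Finite) (hz₀ : z₀ ∉ Z) :
    ∃ f : MvPolynomial (Fin (n + 1)) k, f.IsHomogeneous 1 ∧ f ∈ primeAt z₀ ∧ ∀ z ∈ Z, f ∉ primeAt z := by
  classical
  let T : (Fin (n + 1) → k) →ₗ[k] MvPolynomial (Fin (n + 1)) k :=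
    Fintype.linearCombination k fun l => X l - C (a l) * X c
  let S : Finset (Submodule k (Fin (n + 1) → k)) :=
    hZ.toFinset.image fun z => ((primeAt z).restrictScalars k).comap T
  have htop : ⊤ ∉ S := by
    intro ht
    obtain ⟨z, hz, hzt⟩ := Finset.mem_image.1 ht
    have hL : ∀ l, X l - C (a l) * X c ∈ primeAt z := fun l => by
      have := hzt.ge (show Pi.single l 1 ∈ (⊤ : Submodule k (Fin (n + 1) → k)) from trivial)
      simpa [T, Fintype.linearCombination_apply_single] using this
    refine hz₀ (?_ : z₀ ∈ Z)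
    have key : primeAt z₀ = primeAt z := by
      refine le_antisymm ?_ ?_
      all_goals
        intro f hf
        rw [← MvPolynomial.sum_homogeneousComponent f]
        refine Ideal.sum_mem _ fun e _ => ?_
        first
          | refine (mem_primeAt_iff_eval hL (homogeneousComponent_isHomogeneous e f)).2
              ((mem_primeAt_iff_eval ha (homogeneousComponent_isHomogeneous e f)).1 ?_)
            exact homog_component_mem z₀ hf e
          | refine (mem_primeAt_iff_eval ha (homogeneousComponent_isHomogeneous e f)).2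
              ((mem_primeAt_iff_eval hL (homogeneousComponent_isHomogeneous e f)).1 ?_)
            exact homog_component_mem z hf e
    have : (show ProjectiveSpectrum 𝒜 from z₀) = (show ProjectiveSpectrum 𝒜 from z) :=
      ProjectiveSpectrum.ext (HomogeneousIdeal.toIdeal_injective key)
    exact (show z₀ = z from this) ▸ hZ.mem_toFinset.1 hz
  obtain ⟨v, hv⟩ := (Set.ne_univ_iff_exists_notMem _).1 (Subspace.biUnion_ne_univ_of_top_notMem htop)
  refine ⟨T v, ?_, ?_, fun z hz h => hv (Set.mem_iUnion₂.2
    ⟨_, Finset.mem_image.2 ⟨z, hZ.mem_toFinset.2 hz, rfl⟩, h⟩)⟩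
  · rw [Fintype.linearCombination_apply]
    refine IsHomogeneous.sum _ _ _ fun l _ => ?_
    rw [smul_eq_C_mul]
    exact ((isHomogeneous_X k l).sub ((isHomogeneous_X k c).C_mul (a l))).C_mul _
  · rw [Fintype.linearCombination_apply]
    exact Submodule.sum_mem _ fun l _ => Submodule.smul_of_tower_mem _ _ (ha l)
where
  homog_component_mem (z : CohB1.ProjSpace n k) {f : MvPolynomial (Fin (n + 1)) k} (hf : f ∈ primeAt z) (e : ℕ) :
      homogeneousComponent e f ∈ primeAt z := by
    have h := (show ProjectiveSpectrum 𝒜 from z).asHomogeneousIdeal.isHomogeneous e hf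
    rw [← MvPolynomial.decomposition.decompose'_apply]
    exact h

end Groth.Agent.VarHyper
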