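import Groth.Agent.PnCoh.TwistCech
import Groth.Agent.PnCoh.Chow.PullFrame
import Groth.Agent.ZeroSchX.Basic

/-!
# Global sections of `O(1)` on projective space are linear forms
-/

universe u

set_option backward.isDefEq.respectTransparency false
set_option backward.isDefEq.respectTransparency.types false

open CategoryTheory AlgebraicGeometry MvPolynomial TopologicalSpace Opposite

namespace Groth.Agent.VarHyper

open Groth.Agent.PnCoh

attribute [local instance] MvPolynomial.gradedAlgebra

variable {ι : Type} [Fintype ι] {R : Type u} [CommRing R]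

omit [Fintype ι] in
theorem castExpo_single (i : ι) (a : ℕ) :
    castExpo ι (Finsupp.single i a) = Finsupp.single i (a : ℤ) := by
  ext j
  classical
  rw [castExpo_apply, Finsupp.single_apply, Finsupp.single_apply]
  split <;> simp

/-- A global section of `O(1)` is given by a linear form. -/
theorem exists_linForm [Nonempty ι] (t : TwTop ι R 1) :
    ∃ ℓ : MvPolynomial ι R, ℓ ∈ homogeneousSubmodule ι R 1 ∧
      ∀ x : (⊤ : Opens (ProjectiveSpectrum.top (homogeneousSubmodule ι R))),
        (t.1 x).1 = Localization.mk ℓ 1 := by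
  classical
  let i₀ : ι := Classical.arbitrary ι
  let a : ι → R := fun j => (globL t i₀).coeff (Finsupp.single j (1 : ℤ))
  let ℓ : MvPolynomial ι R := ∑ j, C (a j) * X j
  have hℓ : ℓ ∈ homogeneousSubmodule ι R 1 :=
    Submodule.sum_mem _ fun j _ => (isHomogeneous_C ι (a j)).mul (isHomogeneous_X R j)
  have hL : toLaur ι R ℓ = globL t i₀ := by
    have h : toLaur ι R ℓ = ∑ j, AddMonoidAlgebra.single (Finsupp.single j (1 : ℤ)) (a j) := by
      rw [map_sum]
      refine Finset.sum_congr rfl fun j _ => ?_
      rw [C_mul_X_eq_monomial, toLaur_monomial, castExpo_single]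
      rfl
    rw [h]
    ext e
    by_cases he : ∃ j, e = Finsupp.single j (1 : ℤ)
    · obtain ⟨j, rfl⟩ := he
      rw [AddMonoidAlgebra.coeff_sum, Finsupp.finsetSum_apply, Finset.sum_eq_single j]
      · simp [a]
      · intro b _ hb
        simp [AddMonoidAlgebra.coeff_single, Finsupp.single_eq_single_iff, hb]
      · simp
    · push Not at he
      rw [AddMonoidAlgebra.coeff_sum, Finsupp.finsetSum_apply]
      refine (Finset.sum_eq_zero fun j _ => ?_).trans ?_
      · simp [AddMonoidAlgebra.coeff_single, he j]
      · by_contra hne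
        obtain ⟨h1, h2⟩ := globL_supp t i₀ e (Ne.symm hne)
        have h3 := h2 (Or.inr zero_le_one)
        rw [Finsupp.sum_fintype _ _ (fun _ => rfl)] at h1
        obtain ⟨j, hj⟩ : ∃ j, 0 < e j := by
          by_contra hc
          push Not at hc
          have h4 : ∑ j, e j ≤ 0 := Finset.sum_nonpos fun j _ => hc j
          omega
        refine he j (Finsupp.ext fun b => ?_)
        have hsplit := Finset.add_sum_erase Finset.univ (fun x => e x) (Finset.mem_univ j)
        have hrest : 0 ≤ ∑ x ∈ Finset.univ.erase j, e x := Finset.sum_nonneg fun x _ => h3 x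
        by_cases hb : j = b
        · subst hb
          rw [Finsupp.single_eq_same]
          omega
        · rw [Finsupp.single_eq_of_ne (Ne.symm hb)]
          have hb' : e b ≤ ∑ x ∈ Finset.univ.erase j, e x :=
            Finset.single_le_sum (fun x _ => h3 x)
              (Finset.mem_erase.2 ⟨Ne.symm hb, Finset.mem_univ b⟩)
          have := h3 b
          omega
  refine ⟨ℓ, hℓ, fun x => ?_⟩
  obtain ⟨i, hi⟩ : ∃ i, x.1 ∈ mOpen R (Finsupp.single i 1) := by
    have hx : x.1 ∈ (⨆ i : ι, mOpen R (Finsupp.single i 1)) := by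
      rw [iSup_mOpen_single]; trivial
    exact Opens.mem_iSup.1 hx
  obtain ⟨b, q, hr⟩ := exists_isRep 1 (Finsupp.single i 1) (single_one_ne_zero i) (globRes t _)
  have h1 := secTw_eq_of_isRep (single_one_ne_zero i) hr
  change globL t i = _ at h1
  rw [globL_eq t i i₀, ← hL] at h1
  have h2 : b = ℓ * monomial (Finsupp.single i 1) (1 : R) ^ q := by
    refine toLaur_injective ?_
    have h3 := congrArg (· * AddMonoidAlgebra.single (q • castExpo ι (Finsupp.single i 1)) (1 : R)) h1
    rw [mul_assoc, AddMonoidAlgebra.single_mul_single, neg_add_cancel, one_mul] at h3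
    change _ = toLaur ι R b * 1 at h3
    rw [mul_one] at h3
    rw [map_mul, map_pow, toLaur_monomial, AddMonoidAlgebra.single_pow, one_pow]
    exact h3.symm
  have h4 := hr.2 ⟨x.1, hi⟩
  refine h4.trans ?_
  rw [h2, Localization.mk_eq_mk_iff, Localization.r_iff_exists]
  refine ⟨1, ?_⟩
  simp [mul_comm]

end Groth.Agent.VarHyper
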