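import Groth.Agent.VarHyper.Ker
import Groth.Agent.VarHyper.LinForm
import Groth.Agent.Eg2Twist.Frames

/-!
# A hyperplane is a projective space
-/

universe u

set_option backward.isDefEq.respectTransparency false
set_option backward.isDefEq.respectTransparency.types false

open CategoryTheory AlgebraicGeometry MvPolynomial TopologicalSpace Opposite HomogeneousLocalization

namespace Groth.Agent.VarHyper

open Groth.Agent.PnCoh.Chow Groth.Agent.AModX

theorem eq_zero_of_sv_top {X : Scheme.{u}} {L : X.Modules} (s : Coh.structureModule X ⟶ L)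
    (h : ZeroSchX.sv s ⊤ = 0) : s = 0 := by
  refine SheafOfModules.hom_ext (PresheafOfModules.hom_ext fun U => ModuleCat.hom_ext
    (LinearMap.ext_ring ?_))
  show ZeroSchX.sv s U.unop = 0
  rw [← ZeroSchX.res_sv s (le_top : U.unop ≤ ⊤), h]
  exact map_zero (L.presheaf.map _).hom

variable {k : Type u} [Field k] {n : ℕ} (a : Fin (n + 2) → k) (p : Fin (n + 2))

theorem ratioOf_incl {b t : MvPolynomial (Fin (n + 2)) k} (hb : b ∈ CohB1.polyGrading (n + 1) k 1)
    (ht : t ∈ CohB1.polyGrading (n + 1) k 1) {W : (Proj (CohB1.polyGrading n k)).Opens}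
    (hW : W ≤ (incl a p) ⁻¹ᵁ Proj.basicOpen (CohB1.polyGrading (n + 1) k) t) :
    ProjUPX.ratioOf (incl a p) hb ht hW =
      resR (show W ≤ Proj.basicOpen (CohB1.polyGrading n k) (restHom a p t) from hW)
        (sRatio ((restHom a p).2 hb) ((restHom a p).2 ht)) := by
  have h := ConcreteCategory.congr_hom
    (Proj.awayToSection_comp_appLE (restHom a p) (irrelevant_le_map a p) ht)
    (Away.mk (CohB1.polyGrading (n + 1) k) ht 1 b (by rwa [one_smul]))
  change ((incl a p).appLE _ W hW).hom _ = _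
  rw [← Scheme.Hom.appLE_map (incl a p) (le_refl ((incl a p) ⁻¹ᵁ Proj.basicOpen _ t))
    (homOfLE hW).op]
  refine (congrArg (((Proj (CohB1.polyGrading n k)).presheaf.map (homOfLE hW).op).hom) h).trans ?_
  simp only [CommRingCat.hom_comp, RingHom.coe_comp, Function.comp_apply, CommRingCat.hom_ofHom,
    Away.map_mk]
  rfl

theorem nonempty_pullback_incl :
    Nonempty ((Scheme.Modules.pullback (incl a p)).obj (Twist.twist (CohB1.polyGrading (n + 1) k) 1) ≅
      Twist.twist (CohB1.polyGrading n k) 1) := by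
  refine Eg2Twist.nonempty_iso_of_frames (ι := ULift.{u} (Fin (n + 2)))
    (fun i => (incl a p) ⁻¹ᵁ Proj.basicOpen (CohB1.polyGrading (n + 1) k) (X i.down))
    (fun x => ?_) (fun i => pFrame (incl a p) (X_mem i.down) 1)
    (fun i => twF ((restHom a p).2 (X_mem i.down)) 1)
    (fun i => isFrame_pFrame _ _ _) (fun i => isFrame_twF _ _) ?_
  · have hx : (incl a p) x ∈
        ⨆ i : Fin (n + 2), Proj.basicOpen (CohB1.polyGrading (n + 1) k) (X i) := by
      rw [iSup_basicOpen_X]; trivial
    obtain ⟨i, hi⟩ := Opens.mem_iSup.1 hx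
    exact ⟨⟨i⟩, hi⟩
  · intro i j W hi hj g hg
    have h1 := res_pFrame (incl a p) (X_mem (k := k) i.down) (X_mem j.down) 1 hi hj
    have h2 := res_twF ((restHom a p).2 (X_mem (k := k) i.down)) ((restHom a p).2 (X_mem j.down)) 1
      (show W ≤ Proj.basicOpen (CohB1.polyGrading n k) _ from hi)
      (show W ≤ Proj.basicOpen (CohB1.polyGrading n k) _ from hj)
    rw [(isFrame_pFrame (incl a p) (X_mem i.down) 1).coord_unique hi (hg.symm.trans h1),
      ratioOf_incl]
    exact h2

set_option maxHeartbeats 1000000 in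
theorem exists_iso_hyperplane
    (s : Coh.structureModule (Proj (CohB1.polyGrading (n + 1) k)) ⟶
      Twist.twist (CohB1.polyGrading (n + 1) k) 1) (hs : s ≠ 0) :
    ∃ φ : Proj (CohB1.polyGrading n k) ≅ (PicF2.zeroScheme _ s).subscheme,
      Nonempty ((Scheme.Modules.pullback (φ.hom ≫ (PicF2.zeroScheme _ s).subschemeι)).obj
          (Twist.twist (CohB1.polyGrading (n + 1) k) 1) ≅ Twist.twist (CohB1.polyGrading n k) 1) := by
  obtain ⟨ℓ, hℓ, hval⟩ := exists_linForm (ι := Fin (n + 2)) (R := k) (ZeroSchX.sv s ⊤)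
  obtain ⟨a, rfl⟩ := eq_lin hℓ
  obtain ⟨p, hp⟩ : ∃ p, a p ≠ 0 := by
    by_contra hc
    push Not at hc
    refine hs (eq_zero_of_sv_top s (Subtype.ext (funext fun x => Subtype.ext ?_)))
    rw [hval x]
    have : lin a = 0 := Finset.sum_eq_zero fun j _ => by rw [hc j, C_0, zero_mul]
    rw [this, Localization.mk_zero]
    rfl
  rw [← ker_incl a p hp s hval]
  have := isClosedImmersion_incl a p
  have := IsClosedImmersion.isIso_lift (incl a p).ker.subschemeι (incl a p)
    (incl a p).ker.ker_subschemeι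
  refine ⟨asIso (IsClosedImmersion.lift (incl a p).ker.subschemeι (incl a p)
    (incl a p).ker.ker_subschemeι.le), ?_⟩
  rw [asIso_hom, IsClosedImmersion.lift_fac]
  exact nonempty_pullback_incl a p

end Groth.Agent.VarHyper
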