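import Groth.Prelude.Def_CohB1
import Groth.Agent.Proj16.Map

/-!
# Restriction of the polynomial ring to a hyperplane
-/

universe u

open MvPolynomial HomogeneousLocalization

namespace Groth.Agent.VarHyper

variable {k : Type u} [Field k] {n : ℕ}

/-- A linear form. -/
noncomputable def lin (a : Fin (n + 2) → k) : MvPolynomial (Fin (n + 2)) k := ∑ j, C (a j) * X j

theorem lin_mem (a : Fin (n + 2) → k) : lin a ∈ CohB1.polyGrading (n + 1) k 1 :=
  Submodule.sum_mem _ fun j _ => (isHomogeneous_C _ (a j)).mul (isHomogeneous_X k j)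

theorem eq_lin {ℓ : MvPolynomial (Fin (n + 2)) k} (hℓ : ℓ ∈ CohB1.polyGrading (n + 1) k 1) :
    ∃ a, ℓ = lin a := by
  have h : ℓ.IsHomogeneous 1 := hℓ
  refine ⟨fun j => coeff (Finsupp.single j 1) ℓ, ?_⟩
  ext d
  rw [lin, coeff_sum]
  simp only [C_mul_X_eq_monomial, coeff_monomial]
  by_cases hd : ∃ j, d = Finsupp.single j 1
  · obtain ⟨j, rfl⟩ := hd
    rw [Finset.sum_eq_single j]
    · simp
    · intro b _ hb
      simp [Finsupp.single_eq_single_iff, hb]
    · simp
  · push Not at hd
    rw [Finset.sum_eq_zero fun j _ => if_neg (Ne.symm (hd j))]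
    by_contra hc
    have h1 := h hc
    rw [Finsupp.weight_apply, Finsupp.sum_fintype] at h1
    · simp only [Pi.one_apply, smul_eq_mul, mul_one] at h1
      obtain ⟨j, hj⟩ : ∃ j, 0 < d j := by
        by_contra hcon
        push Not at hcon
        simp [Nat.le_zero.1 (hcon _)] at h1
      refine hd j (Finsupp.ext fun b => ?_)
      have hsplit := Finset.add_sum_erase Finset.univ (fun x => d x) (Finset.mem_univ j)
      by_cases hb : j = b
      · subst hb
        rw [Finsupp.single_eq_same]
        omega
      · rw [Finsupp.single_eq_of_ne (Ne.symm hb)]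
        have hb' : d b ≤ ∑ x ∈ Finset.univ.erase j, d x :=
          Finset.single_le_sum (fun x _ => Nat.zero_le (d x))
            (Finset.mem_erase.2 ⟨Ne.symm hb, Finset.mem_univ b⟩)
        omega
    · simp

variable (a : Fin (n + 2) → k) (p : Fin (n + 2))

/-- Values of the variables on the hyperplane, solved for `X p`. -/
noncomputable def restVal : Fin (n + 2) → MvPolynomial (Fin (n + 1)) k :=
  Fin.insertNth (α := fun _ => MvPolynomial (Fin (n + 1)) k) p
    (-(C (a p)⁻¹ * ∑ j : Fin (n + 1), C (a (p.succAbove j)) * X j)) (fun j => X j)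

theorem restVal_succAbove (j : Fin (n + 1)) : restVal a p (p.succAbove j) = X j :=
  Fin.insertNth_apply_succAbove _ _ _ _

theorem restVal_self :
    restVal a p p = -(C (a p)⁻¹ * ∑ j : Fin (n + 1), C (a (p.succAbove j)) * X j) :=
  Fin.insertNth_apply_same _ _ _

theorem restVal_mem (i : Fin (n + 2)) : (restVal a p i).IsHomogeneous 1 := by
  rcases Fin.eq_self_or_eq_succAbove p i with rfl | ⟨j, rfl⟩
  · rw [restVal_self]
    suffices h : (∑ j : Fin (n + 1), C (a (i.succAbove j)) * X j).IsHomogeneous 1 by
      have h2 := ((isHomogeneous_C (Fin (n + 1)) (a i)⁻¹).mul h).neg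
      rwa [zero_add] at h2
    exact Submodule.sum_mem (homogeneousSubmodule (Fin (n + 1)) k 1) fun j _ =>
      (isHomogeneous_C _ (a (i.succAbove j))).mul (isHomogeneous_X k j)
  · rw [restVal_succAbove]
    exact isHomogeneous_X k j

/-- Restriction to the hyperplane. -/
noncomputable def restHom : CohB1.polyGrading (n + 1) k →+*ᵍ CohB1.polyGrading n k :=
  { (aeval (restVal a p)).toRingHom with
    map_mem := fun {i x} hx => by
      have h : (aeval (restVal a p) x).IsHomogeneous (1 * i) :=
        IsHomogeneous.aeval (show x.IsHomogeneous i from hx) _ (restVal_mem a p)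
      rwa [one_mul] at h }

theorem restHom_apply (x : MvPolynomial (Fin (n + 2)) k) :
    restHom a p x = aeval (restVal a p) x := rfl

theorem restHom_rename (b : MvPolynomial (Fin (n + 1)) k) :
    restHom a p (rename p.succAbove b) = b := by
  rw [restHom_apply, aeval_rename]
  have : restVal a p ∘ p.succAbove = X := funext (restVal_succAbove a p)
  rw [this, aeval_X_left_apply]

theorem restHom_surjective : Function.Surjective (restHom a p) := fun b =>
  ⟨_, restHom_rename a p b⟩

theorem irrelevant_le_map :
    HomogeneousIdeal.irrelevant (CohB1.polyGrading n k) ≤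
      (HomogeneousIdeal.irrelevant (CohB1.polyGrading (n + 1) k)).map (restHom a p) := by
  rw [← toIdeal_le_toIdeal_iff, HomogeneousIdeal.irrelevant_eq_span, Ideal.span_le]
  intro b hb
  simp only [Set.mem_iUnion] at hb
  obtain ⟨i, hi, hb⟩ := hb
  obtain ⟨x, hx, rfl⟩ := Proj16.exists_mem_of_surjective (restHom a p) (restHom_surjective a p) hb
  exact Ideal.mem_map_of_mem _ (HomogeneousIdeal.mem_irrelevant_of_mem _ hi hx)

theorem restHom_lin (hp : a p ≠ 0) : restHom a p (lin a) = 0 := by
  rw [restHom_apply, lin, map_sum, Fin.sum_univ_succAbove _ p]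
  simp only [map_mul, aeval_C, aeval_X, restVal_self, restVal_succAbove, MvPolynomial.algebraMap_eq]
  rw [mul_neg, ← mul_assoc, ← C_mul, mul_inv_cancel₀ hp, C_1, one_mul, neg_add_cancel]

theorem sub_mem_span (hp : a p ≠ 0) (x : MvPolynomial (Fin (n + 2)) k) :
    rename p.succAbove (restHom a p x) - x ∈ Ideal.span {lin a} := by
  induction x using MvPolynomial.induction_on with
  | C r => simp [restHom_apply]
  | add f g hf hg =>
    rw [map_add, map_add, add_sub_add_comm]
    exact add_mem hf hg
  | mul_X f i hf =>
    rw [map_mul, map_mul, show rename p.succAbove (restHom a p f) *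
        rename p.succAbove (restHom a p (X i)) - f * X i =
        (rename p.succAbove (restHom a p f) - f) * rename p.succAbove (restHom a p (X i)) +
          f * (rename p.succAbove (restHom a p (X i)) - X i) by ring]
    refine add_mem (Ideal.mul_mem_right _ _ hf) (Ideal.mul_mem_left _ _ ?_)
    rw [restHom_apply, aeval_X]
    rcases Fin.eq_self_or_eq_succAbove p i with rfl | ⟨j, rfl⟩
    · rw [Ideal.mem_span_singleton']
      refine ⟨-C (a i)⁻¹, ?_⟩
      have h1 : lin a = C (a i) * X i + ∑ j : Fin (n + 1), C (a (i.succAbove j)) * X (i.succAbove j) :=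
        Fin.sum_univ_succAbove _ i
      rw [h1, restVal_self]
      simp only [map_neg, map_mul, map_sum, rename_C, rename_X]
      rw [mul_add, ← mul_assoc, neg_mul, ← C_mul, inv_mul_cancel₀ hp, C_1]
      ring
    · rw [restVal_succAbove, rename_X, sub_self]
      exact zero_mem _

theorem exists_eq_lin_mul (hp : a p ≠ 0) {m : ℕ} {x : MvPolynomial (Fin (n + 2)) k}
    (hx : x ∈ CohB1.polyGrading (n + 1) k (m + 1)) (h0 : restHom a p x = 0) :
    ∃ c ∈ CohB1.polyGrading (n + 1) k m, x = lin a * c := by
  have h := sub_mem_span a p hp x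
  rw [h0, map_zero, zero_sub, neg_mem_iff, Ideal.mem_span_singleton'] at h
  obtain ⟨c, hc⟩ := h
  refine ⟨homogeneousComponent m c, homogeneousComponent_isHomogeneous m c, ?_⟩
  have h1 := congrArg (homogeneousComponent (m + 1)) hc
  rw [(homogeneousComponent_of_mem (n := m + 1) hx), if_pos rfl] at h1
  rw [← h1, mul_comm c, add_comm m 1]
  conv_lhs => rw [← sum_homogeneousComponent (φ := c)]
  rw [Finset.mul_sum, map_sum]
  have hi : ∀ i, homogeneousComponent (1 + m) (lin a * homogeneousComponent i c) =
      if i = m then lin a * homogeneousComponent i c else 0 := fun i => by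
    rw [homogeneousComponent_of_mem (n := 1 + i)
      ((lin_mem a : (lin a).IsHomogeneous 1).mul (homogeneousComponent_isHomogeneous i c))]
    exact if_congr (by omega) rfl rfl
  simp only [hi, Finset.sum_ite_eq', Finset.mem_range]
  split
  · rfl
  · rw [homogeneousComponent_eq_zero (φ := c) (n := m) (by omega), mul_zero]

end Groth.Agent.VarHyper
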