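import Groth.Agent.VarHyper.Alg
import Groth.Agent.PnCoh.Chow.PullFrame
import Groth.Agent.ZeroSchX.Basic
import Groth.Agent.InvX.Tensor

/-!
# The zero scheme of a linear form is the image of the restriction map
-/

universe u

set_option backward.isDefEq.respectTransparency false
set_option backward.isDefEq.respectTransparency.types false

open CategoryTheory AlgebraicGeometry MvPolynomial TopologicalSpace Opposite HomogeneousLocalization

namespace Groth.Agent.VarHyper

open Groth.Agent.PnCoh.Chow Groth.Agent.AModX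

variable {k : Type u} [Field k] {n : ℕ}

theorem X_mem (i : Fin (n + 1)) : (X i : MvPolynomial (Fin (n + 1)) k) ∈ CohB1.polyGrading n k 1 :=
  isHomogeneous_X k i

theorem iSup_basicOpen_X : ⨆ i : Fin (n + 1), Proj.basicOpen (CohB1.polyGrading n k) (X i) = ⊤ := by
  refine Proj.iSup_basicOpen_eq_top' _ (fun i => X i) (fun i => ⟨1, X_mem i⟩) ?_
  rw [eq_top_iff]
  rintro x -
  induction x using MvPolynomial.induction_on with
  | C r =>
    exact Subalgebra.algebraMap_mem (Algebra.adjoin (CohB1.polyGrading n k 0) _)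
      (⟨C r, isHomogeneous_C _ r⟩ : CohB1.polyGrading n k 0)
  | add f g hf hg => exact add_mem hf hg
  | mul_X f i hf => exact mul_mem hf (Algebra.subset_adjoin ⟨i, rfl⟩)

theorem isInvertible_twist (d : ℤ) : PicF.IsInvertible (Twist.twist (CohB1.polyGrading n k) d) :=
  InvX.isInvertible_of_frames fun x => by
    have hx : x ∈ ⨆ i : Fin (n + 1), Proj.basicOpen (CohB1.polyGrading n k) (X i) := by
      rw [iSup_basicOpen_X]; trivial
    obtain ⟨i, hi⟩ := Opens.mem_iSup.1 hx
    exact ⟨_, hi, twF (X_mem i) d, isFrame_twF (X_mem i) d⟩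

variable (a : Fin (n + 2) → k) (p : Fin (n + 2))

/-- The closed immersion of the hyperplane. -/
noncomputable def incl : Proj (CohB1.polyGrading n k) ⟶ Proj (CohB1.polyGrading (n + 1) k) :=
  Proj.map (restHom a p) (irrelevant_le_map a p)

theorem isClosedImmersion_incl : IsClosedImmersion (incl a p) :=
  Proj16.isClosedImmersion_map _ _ (restHom_surjective a p)

/-- The kernel on a chart. -/
theorem ker_awayMap (hp : a p ≠ 0) (i : Fin (n + 2)) :
    RingHom.ker (Away.map (restHom a p) (X i : MvPolynomial (Fin (n + 2)) k)) =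
      Ideal.span {Away.mk (CohB1.polyGrading (n + 1) k) (X_mem i) 1 (lin a)
        (by rw [one_smul]; exact lin_mem a)} := by
  refine le_antisymm (fun z hz => ?_) ((Ideal.span_singleton_le_iff_mem _).2 ?_)
  · obtain ⟨q, x, hx, rfl⟩ := z.mk_surjective _ (X_mem i)
    rw [RingHom.mem_ker, Away.map_mk, ← (HomogeneousLocalization.val_injective _).eq_iff,
      Away.val_mk, HomogeneousLocalization.val_zero, Localization.mk_eq_mk'] at hz
    obtain ⟨⟨_, r, rfl⟩, hr⟩ := (IsLocalization.mk'_eq_zero_iff _ _).mp hz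
    have hmem : X i ^ (r + 1) * x ∈ CohB1.polyGrading (n + 1) k (r + q + 1) := by
      have h := SetLike.mul_mem_graded (SetLike.pow_mem_graded (r + 1) (X_mem (k := k) i)) hx
      simpa [add_right_comm] using h
    have h0 : restHom a p (X i ^ (r + 1) * x) = 0 := by
      change restHom a p (X i) ^ r * restHom a p x = 0 at hr
      rw [map_mul, map_pow, pow_succ', mul_assoc, hr, mul_zero]
    obtain ⟨c, hc, hxc⟩ := exists_eq_lin_mul a p hp hmem h0
    rw [Ideal.mem_span_singleton']
    refine ⟨Away.mk _ (X_mem i) (r + q) c (by simpa using hc), ?_⟩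
    apply HomogeneousLocalization.val_injective
    rw [HomogeneousLocalization.val_mul, Away.val_mk, Away.val_mk, Away.val_mk, Localization.mk_mul,
      Localization.mk_eq_mk_iff, Localization.r_iff_exists]
    refine ⟨1, ?_⟩
    simp only [OneMemClass.coe_one, one_mul, Submonoid.coe_mul]
    rw [mul_comm c, ← hxc]
    ring
  · rw [RingHom.mem_ker, Away.map_mk]
    apply HomogeneousLocalization.val_injective
    rw [Away.val_mk, HomogeneousLocalization.val_zero, restHom_lin a p hp, Localization.mk_zero]

/-- The section on a chart. -/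
theorem sv_eq_smul_twF
    (s : Coh.structureModule (Proj (CohB1.polyGrading (n + 1) k)) ⟶
      Twist.twist (CohB1.polyGrading (n + 1) k) 1)
    (hs : ∀ x : (⊤ : Opens (ProjectiveSpectrum.top (CohB1.polyGrading (n + 1) k))),
      ((ZeroSchX.sv s ⊤).1 x).1 = Localization.mk (lin a) 1) (i : Fin (n + 2)) :
    ZeroSchX.sv s (Proj.basicOpen (CohB1.polyGrading (n + 1) k) (X i)) =
      sRatio (lin_mem a) (X_mem i) • twF (X_mem i) 1 := by
  rw [← ZeroSchX.res_sv s (le_top : Proj.basicOpen (CohB1.polyGrading (n + 1) k) (X i) ≤ ⊤)]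
  refine Subtype.ext (funext fun x => Subtype.ext ?_)
  refine Eq.trans (hs ⟨x.1, trivial⟩) ?_
  refine Eq.trans ?_ (Twist.coe_smul_val (1 : ℤ) x.1 _ _).symm
  show _ = (((sRatio (lin_mem a) (X_mem i)).1 x : Twist.A0 _ x.1)).val *
    Localization.mk ((X i : MvPolynomial (Fin (n + 2)) k) ^ ((1 : ℤ)).toNat) _
  erw [sRatio_val (lin_mem a) (X_mem i) x]
  rw [Localization.mk_mul, Localization.mk_eq_mk_iff, Localization.r_iff_exists]
  refine ⟨1, ?_⟩
  simp only [OneMemClass.coe_one, Submonoid.coe_mul, Int.toNat_one, pow_one, one_mul]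
  rw [show (-1 : ℤ).toNat = 0 from rfl, pow_zero, mul_one, mul_comm]

set_option maxHeartbeats 1000000 in
/-- The zero scheme of the section of a linear form is the kernel of the inclusion. -/
theorem ker_incl (hp : a p ≠ 0)
    (s : Coh.structureModule (Proj (CohB1.polyGrading (n + 1) k)) ⟶
      Twist.twist (CohB1.polyGrading (n + 1) k) 1)
    (hs : ∀ x : (⊤ : Opens (ProjectiveSpectrum.top (CohB1.polyGrading (n + 1) k))),
      ((ZeroSchX.sv s ⊤).1 x).1 = Localization.mk (lin a) 1) :
    (incl a p).ker = PicF2.zeroScheme _ s := by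
  have := isClosedImmersion_incl a p
  refine Scheme.IdealSheafData.ext_of_iSup_eq_top
    (fun i : Fin (n + 2) => (⟨Proj.basicOpen (CohB1.polyGrading (n + 1) k) (X i),
      Proj.isAffineOpen_basicOpen _ _ (X_mem i) one_pos⟩ : (Proj _).affineOpens))
    iSup_basicOpen_X fun i => ?_
  rw [ZeroSchX.ideal_zeroScheme (isInvertible_twist 1), Scheme.Hom.ker_apply]
  set w := Away.mk (CohB1.polyGrading (n + 1) k) (X_mem i) 1 (lin a)
        (by rw [one_smul]; exact lin_mem a) with hw
  set U := Proj.basicOpen (CohB1.polyGrading (n + 1) k) (X i) with hU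
  have hc := sv_eq_smul_twF a s hs i
  rw [ZeroSchX.zeroIdealOn_eq_span s (isFrame_twF (X_mem i) 1) hc]
  let eA := Proj.basicOpenIsoAway (CohB1.polyGrading (n + 1) k) (X i) (X_mem i) one_pos
  have heA : eA.hom = Proj.awayToSection (CohB1.polyGrading (n + 1) k) (X i) := rfl
  have hA : Function.Bijective (Proj.awayToSection (CohB1.polyGrading (n + 1) k) (X i)).hom := by
    rw [← heA]
    exact ConcreteCategory.bijective_of_isIso eA.hom
  have hB : Function.Injective
      (Proj.awayToSection (CohB1.polyGrading n k) (restHom a p (X i))).hom :=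
    (ConcreteCategory.bijective_of_isIso
      (Proj.basicOpenIsoAway (CohB1.polyGrading n k) (restHom a p (X i))
        ((restHom a p).2 (X_mem i)) one_pos).hom).1
  have happ : ∀ z, ((incl a p).app U).hom ((Proj.awayToSection _ (X i)).hom z) =
      (Proj.awayToSection (CohB1.polyGrading n k) (restHom a p (X i))).hom
        (Away.map (restHom a p) (X i) z) := fun z => by
    have h := ConcreteCategory.congr_hom
      (Proj.awayToSection_comp_appLE (restHom a p) (irrelevant_le_map a p) (X_mem i)) z
    rw [Scheme.Hom.app_eq_appLE]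
    exact h
  ext y
  obtain ⟨z, rfl⟩ := hA.2 y
  rw [RingHom.mem_ker, happ, map_eq_zero_iff _ hB, ← RingHom.mem_ker, ker_awayMap a p hp i]
  constructor
  · intro hz
    have := Ideal.mem_map_of_mem (Proj.awayToSection (CohB1.polyGrading (n + 1) k) (X i)).hom hz
    rwa [Ideal.map_span, Set.image_singleton] at this
  · intro hy
    obtain ⟨b, hb⟩ := Ideal.mem_span_singleton'.1 hy
    obtain ⟨b', rfl⟩ := hA.2 b
    exact Ideal.mem_span_singleton'.2 ⟨b', hA.1 (by rw [map_mul]; exact hb)⟩

end Groth.Agent.VarHyper
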